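import Groth.Agent.FixFin.Ring
import Groth.Agent.S13206
import Mathlib.AlgebraicGeometry.Morphisms.Smooth
import Mathlib.AlgebraicGeometry.Morphisms.Affine

/-!
# The fixed scheme of a finite group of invertible order on a smooth separated scheme is smooth
-/

set_option autoImplicit false
set_option linter.style.haveILetI false

universe u

open CategoryTheory Limits AlgebraicGeometry TopologicalSpace

noncomputable section

namespace Groth.Agent.FixFin

variable {X S : Scheme.{u}} (p : X ⟶ S) {G : Type u} [Group G] [Finite G] (ρ : G →* Aut X)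
  (hρ : ∀ g : G, (ρ g).hom ≫ p = p)

theorem mem_iInf_opens {α ι : Type*} [TopologicalSpace α] [Finite ι] (U : ι → Opens α) (x : α) :
    x ∈ ⨅ i, U i ↔ ∀ i, x ∈ U i := by
  refine ⟨fun h i => iInf_le U i h, fun h => ?_⟩
  have hle : (⟨⋂ i, (U i : Set α), isOpen_iInter_of_finite fun i => (U i).2⟩ : Opens α) ≤ ⨅ i, U i :=
    le_iInf fun i => Set.iInter_subset (fun i => (U i : Set α)) i
  exact hle (Set.mem_iInter.2 h)

theorem hom_apply_mul (g h : G) (y : X) : (ρ g).hom ((ρ h).hom y) = (ρ (g * h)).hom y := by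
  rw [map_mul, ← Scheme.Hom.comp_apply]
  rfl

include hρ in
/-- A fixed point over an affine open has an invariant affine neighbourhood. -/
theorem exists_invariant_affine [IsSeparated p] {V : S.Opens} (hV : IsAffineOpen V) {x : X}
    (hx : ∀ g, (ρ g).hom x = x) (hxV : p x ∈ V) :
    ∃ U : X.Opens, IsAffineOpen U ∧ x ∈ U ∧ U ≤ p ⁻¹ᵁ V ∧ ∀ g, U ≤ (ρ g).hom ⁻¹ᵁ U := by
  obtain ⟨_, ⟨U₀, hU₀, rfl⟩, hxU₀, hU₀V⟩ :=
    X.isBasis_affineOpens.exists_subset_of_mem_open (show x ∈ p ⁻¹ᵁ V from hxV) (p ⁻¹ᵁ V).2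
  let W : X.Opens := p ⁻¹ᵁ V
  have hle : ∀ g, (ρ g).hom ⁻¹ᵁ U₀ ≤ W := fun g y hy => by
    have h := hU₀V hy
    show p y ∈ V
    have e : p ((ρ g).hom y) = p y := by rw [← Scheme.Hom.comp_apply, hρ]
    exact e ▸ h
  haveI : IsAffine (V : Scheme.{u}) := hV
  haveI : IsSeparated (terminal.from (W : Scheme.{u})) := by
    rw [← terminal.comp_from (p ∣_ V)]
    infer_instance
  let U' : (W : Scheme.{u}).Opens := ⨅ g : G, W.ι ⁻¹ᵁ ((ρ g).hom ⁻¹ᵁ U₀)
  have hU' : IsAffineOpen U' := IsAffineOpen.iInf fun g =>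
    (hU₀.preimage (ρ g).hom).preimage_of_isOpenImmersion W.ι (by
      rw [Scheme.Opens.opensRange_ι]
      exact hle g)
  refine ⟨W.ι ''ᵁ U', hU'.image_of_isOpenImmersion W.ι, ⟨⟨x, hxV⟩, ?_, rfl⟩, W.ι_image_le U', fun h => ?_⟩
  · exact (mem_iInf_opens _ _).2 fun g => show (ρ g).hom x ∈ U₀ from (hx g).symm ▸ hxU₀
  · rintro y ⟨w, hw, rfl⟩
    have hw' := (mem_iInf_opens _ w).1 hw
    refine ⟨⟨(ρ h).hom w.1, ?_⟩, (mem_iInf_opens _ _).2 fun g => ?_, rfl⟩
    · show p ((ρ h).hom w.1) ∈ V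
      rw [← Scheme.Hom.comp_apply, hρ]
      exact w.2
    · show (ρ g).hom ((ρ h).hom w.1) ∈ U₀
      rw [hom_apply_mul]
      exact hw' (g * h)

include hρ in
/-- Smoothness near a fixed point. -/
theorem smooth_of_fixed [IsSeparated p] [Smooth p] (hG : IsUnit (Nat.card G : Γ(S, ⊤)))
    {Z : Scheme.{u}} (i : Z ⟶ X) [IsClosedImmersion i] (hi : ∀ g, i ≫ (ρ g).hom = i)
    (huniv : ∀ (T : Scheme.{u}) (t : T ⟶ X), (∀ g, t ≫ (ρ g).hom = t) → ∃ z : T ⟶ Z, z ≫ i = t) :
    Smooth (i ≫ p) := by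
  classical
  have key : ∀ z : Z, ∃ W : Z.Opens, z ∈ W ∧ Smooth (W.ι ≫ i ≫ p) := fun z => by
    obtain ⟨_, ⟨V, hV, rfl⟩, hzV, -⟩ :=
      S.isBasis_affineOpens.exists_subset_of_mem_open (Set.mem_univ (p (i z))) isOpen_univ
    obtain ⟨U, hU, hzU, hUV, hUρ⟩ := exists_invariant_affine p ρ hρ hV
      (x := i z) (fun g => by rw [← Scheme.Hom.comp_apply, hi]) hzV
    refine ⟨i ⁻¹ᵁ U, hzU, ?_⟩
    let U' : Z.Opens := i ⁻¹ᵁ U
    have hU' : IsAffineOpen U' := hU.preimage i
    let A := Γ(S, V)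
    let B := Γ(X, U)
    let C := Γ(Z, U')
    let a := p.appLE V U hUV
    letI : Algebra A B := a.hom.toAlgebra
    have hsm : a.hom.Smooth := HasRingHomProperty.appLE @Smooth p ‹_› ⟨V, hV⟩ ⟨U, hU⟩ hUV
    haveI : Algebra.Smooth A B := hsm
    let r : G → (Γ(X, U) ⟶ Γ(X, U)) := fun g => (ρ g).hom.appLE U U (hUρ g)
    have hra : ∀ g, a ≫ r g = a := fun g => by
      simp only [a, r, Scheme.Hom.appLE_comp_appLE, hρ]
    let σ : G → (B →ₐ[A] B) := fun g =>
      { (r g).hom with commutes' := fun c => RingHom.congr_fun (congrArg CommRingCat.Hom.hom (hra g)) c }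
    have hr : ∀ g h, r h ≫ r g = r (h * g) := fun g h => by
      simp only [r, Scheme.Hom.appLE_comp_appLE]
      congr 1
      rw [map_mul]
      rfl
    have hσ : ∀ g h, (σ g).comp (σ h) = σ (h * g) := fun g h =>
      AlgHom.ext fun b => RingHom.congr_fun (congrArg CommRingCat.Hom.hom (hr g h)) b
    have hN : IsUnit (Nat.card G : A) := by
      have := hG.map (S.presheaf.map (homOfLE (le_top : V ≤ ⊤)).op).hom
      rwa [map_natCast] at this
    let c := i.appLE U U' le_rfl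
    have hc : ∀ g, r g ≫ c = c := fun g => by
      simp only [r, c, Scheme.Hom.appLE_comp_appLE, hi]
    have hle : fixIdeal σ ≤ RingHom.ker c.hom := Ideal.span_le.2 (by
      rintro _ ⟨g, b, rfl⟩
      show c.hom (σ g b - b) = 0
      rw [map_sub, sub_eq_zero]
      exact RingHom.congr_fun (congrArg CommRingCat.Hom.hom (hc g)) b)
    let mk : B →+* B ⧸ fixIdeal σ := Ideal.Quotient.mk _
    let π : Spec (CommRingCat.of (B ⧸ fixIdeal σ)) ⟶ X := Spec.map (CommRingCat.ofHom mk) ≫ hU.fromSpec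
    have hπ : ∀ g, π ≫ (ρ g).hom = π := fun g => by
      simp only [π, Category.assoc]
      rw [← IsAffineOpen.SpecMap_appLE_fromSpec (ρ g).hom hU hU (hUρ g), ← Spec.map_comp_assoc]
      congr 2
      ext b
      exact (Ideal.Quotient.eq).2 (sub_mem_fixIdeal σ g b)
    obtain ⟨t, ht⟩ := huniv _ π hπ
    have hrange : Set.range t ⊆ Set.range hU'.fromSpec := by
      rintro _ ⟨w, rfl⟩
      rw [hU'.range_fromSpec]
      show i (t w) ∈ U
      rw [← Scheme.Hom.comp_apply, ht, ← SetLike.mem_coe, ← hU.range_fromSpec]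
      exact ⟨Spec.map (CommRingCat.ofHom mk) w, (Scheme.Hom.comp_apply _ _ _).symm⟩
    let s := IsOpenImmersion.lift hU'.fromSpec t hrange
    obtain ⟨h, hh⟩ := Spec.map_surjective s
    have hch : c ≫ h = CommRingCat.ofHom mk := by
      apply Spec.map_injective
      rw [← cancel_mono hU.fromSpec, Spec.map_comp, Category.assoc,
        IsAffineOpen.SpecMap_appLE_fromSpec i hU hU' le_rfl, hh, IsOpenImmersion.lift_fac_assoc, ht]
    have hker : RingHom.ker c.hom = fixIdeal σ := le_antisymm (fun b hb => by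
      have e := RingHom.congr_fun (congrArg CommRingCat.Hom.hom hch) b
      refine Ideal.Quotient.eq_zero_iff_mem.1 (e.symm.trans ?_)
      show h.hom (c.hom b) = 0
      rw [RingHom.mem_ker.1 hb, map_zero]) hle
    have hsurj : Function.Surjective c.hom := by
      have h2 := i.app_surjective U hU
      simp only [c, Scheme.Hom.app_eq_appLE] at h2 ⊢
      exact h2
    letI : Algebra A C := (c.hom.comp a.hom).toAlgebra
    haveI := smooth_fix σ hσ hN
    let cA : B →ₐ[A] C := { c.hom with commutes' := fun _ => rfl }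
    let e : (B ⧸ fixIdeal σ) ≃ₐ[A] C :=
      (Ideal.quotientEquivAlgOfEq A hker.symm).trans
        (Ideal.quotientKerAlgEquivOfSurjective (f := cA) hsurj)
    haveI : Algebra.Smooth A C := Algebra.Smooth.of_equiv e
    haveI hs : Smooth (Spec.map (a ≫ c)) :=
      HasRingHomProperty.Spec_iff.2 (RingHom.smooth_algebraMap.2 ‹Algebra.Smooth A C›)
    have e2 : U'.ι ≫ i ≫ p = hU'.isoSpec.hom ≫ Spec.map (a ≫ c) ≫ hV.fromSpec := by
      rw [Spec.map_comp, Category.assoc, IsAffineOpen.SpecMap_appLE_fromSpec p hV hU hUV, ← Category.assoc (Spec.map c),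
        IsAffineOpen.SpecMap_appLE_fromSpec i hU hU' le_rfl, ← hU'.isoSpec_hom_fromSpec]
      simp only [Category.assoc]
    rw [e2]
    infer_instance
  choose W hzW hW using key
  exact IsZariskiLocalAtSource.of_iSup_eq_top (P := @Smooth) W
    (top_le_iff.1 fun z _ => Opens.mem_iSup.2 ⟨z, hzW z⟩) hW

end Groth.Agent.FixFin
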