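import Mathlib.RingTheory.Smooth.Basic
import Mathlib.RingTheory.FinitePresentation

/-!
# Fixed points of a finite group of invertible order on a smooth algebra
-/

set_option autoImplicit false

universe u v

noncomputable section

namespace Groth.Agent.FixFin

variable {A B : Type u} [CommRing A] [CommRing B] [Algebra A B] {G : Type v} [Group G] [Finite G]
  (σ : G → (B →ₐ[A] B))

/-- the ideal generated by the differences of the translates -/
def fixIdeal : Ideal B := Ideal.span {x | ∃ g b, σ g b - b = x}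

theorem sub_mem_fixIdeal (g : G) (b : B) : σ g b - b ∈ fixIdeal σ :=
  Ideal.subset_span ⟨g, b, rfl⟩

theorem fixIdeal_fg [Algebra.FiniteType A B] : (fixIdeal σ).FG := by
  classical
  have : Fintype G := Fintype.ofFinite G
  obtain ⟨s, hs⟩ := (inferInstance : Algebra.FiniteType A B).out
  let J : Ideal B := Ideal.span ((Finset.univ ×ˢ s).image fun p : G × B => σ p.1 p.2 - p.2)
  refine ⟨(Finset.univ ×ˢ s).image fun p : G × B => σ p.1 p.2 - p.2, le_antisymm ?_ ?_⟩
  · refine Ideal.span_le.2 fun x hx => ?_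
    obtain ⟨p, -, rfl⟩ := Finset.mem_image.1 (Finset.mem_coe.1 hx)
    exact sub_mem_fixIdeal σ p.1 p.2
  · refine Ideal.span_le.2 ?_
    rintro _ ⟨g, b, rfl⟩
    have h : (Ideal.Quotient.mkₐ A J).comp (σ g) = Ideal.Quotient.mkₐ A J :=
      AlgHom.ext_of_adjoin_eq_top hs fun x hx => by
        refine (Ideal.Quotient.eq).2 (Ideal.subset_span ?_)
        exact Finset.mem_coe.2 (Finset.mem_image.2 ⟨(g, x), Finset.mem_product.2 ⟨Finset.mem_univ _, hx⟩, rfl⟩)
    exact (Ideal.Quotient.eq).1 (AlgHom.congr_fun h b)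

theorem formallySmooth_fix [Algebra.FormallySmooth A B]
    (hσ : ∀ g h, (σ g).comp (σ h) = σ (h * g)) (hN : IsUnit (Nat.card G : A)) :
    Algebra.FormallySmooth A (B ⧸ fixIdeal σ) := by
  classical
  have : Fintype G := Fintype.ofFinite G
  refine Algebra.FormallySmooth.of_comp_surjective fun R _ _ J hJ f₀ => ?_
  obtain ⟨f, hf⟩ := Algebra.FormallySmooth.comp_surjective A B J hJ
    (f₀.comp (Ideal.Quotient.mkₐ A (fixIdeal σ)))
  have hfix : ∀ g b, f₀ (Ideal.Quotient.mkₐ A (fixIdeal σ) (σ g b)) =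
      f₀ (Ideal.Quotient.mkₐ A (fixIdeal σ) b) := fun g b =>
    congrArg f₀ ((Ideal.Quotient.eq).2 (sub_mem_fixIdeal σ g b))
  have hd : ∀ g b, f (σ g b) - f b ∈ J := fun g b => by
    refine (Ideal.Quotient.eq).1 ?_
    exact (AlgHom.congr_fun hf (σ g b)).trans ((hfix g b).trans (AlgHom.congr_fun hf b).symm)
  obtain ⟨c, hc⟩ : ∃ c : R, c * (Fintype.card G : R) = 1 := by
    have := (hN.map (algebraMap A R))
    rw [map_natCast, Nat.card_eq_fintype_card] at this
    exact ⟨↑this.unit⁻¹, this.val_inv_mul⟩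
  let d : G → B → R := fun g b => f (σ g b) - f b
  let D : B → R := fun b => c * ∑ g, d g b
  have hsum : ∀ b, f b + D b = c * ∑ g, f (σ g b) := fun b => by
    simp only [D, d, Finset.sum_sub_distrib, Finset.sum_const, Finset.card_univ, nsmul_eq_mul]
    calc _ = f b + (c * ∑ g, f (σ g b) - c * (Fintype.card G : R) * f b) := by ring
      _ = _ := by rw [hc]; ring
  have hD : ∀ b, D b ∈ J := fun b => J.mul_mem_left c (J.sum_mem fun g _ => hd g b)
  have hJ0 : ∀ a b, a ∈ J → b ∈ J → a * b = 0 := fun a b ha hb => by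
    have := Ideal.mul_mem_mul ha hb
    rwa [← pow_two, hJ, Ideal.mem_bot] at this
  have hmul : ∀ a b, D (a * b) = f a * D b + D a * f b := fun a b => by
    simp only [D, Finset.mul_sum, Finset.sum_mul, ← Finset.sum_add_distrib]
    refine Finset.sum_congr rfl fun g _ => ?_
    have h0 : d g a * d g b = 0 := hJ0 _ _ (hd g a) (hd g b)
    have e : d g (a * b) = f a * d g b + d g a * f b + d g a * d g b := by
      simp only [d, map_mul]
      ring
    rw [e, h0]
    ring
  let f' : B →ₐ[A] R :=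
    AlgHom.ofLinearMap
      (f.toLinearMap +
        (c • ∑ g, ((f.comp (σ g)).toLinearMap - f.toLinearMap) : B →ₗ[A] R))
      (by
        show f 1 + _ = (1 : R)
        simp)
      (fun a b => by
        have e : ∀ b, (f.toLinearMap +
            (c • ∑ g, ((f.comp (σ g)).toLinearMap - f.toLinearMap) : B →ₗ[A] R)) b = f b + D b := fun b => by
          simp [D, d, LinearMap.sum_apply]
        rw [e, e, e, hmul, map_mul]
        linear_combination -(hJ0 _ _ (hD a) (hD b)))
  have hf' : ∀ b, f' b = c * ∑ g, f (σ g b) := fun b => by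
    rw [← hsum]
    simp [f', D, d, LinearMap.sum_apply]
  have hinv : ∀ h b, f' (σ h b) = f' b := fun h b => by
    rw [hf', hf']
    refine congrArg (c * ·) ?_
    rw [← Equiv.sum_comp (Equiv.mulLeft h) (fun g => f (σ g b))]
    refine Finset.sum_congr rfl fun g _ => ?_
    exact congrArg f (AlgHom.congr_fun (hσ g h) b)
  have hker : ∀ x ∈ fixIdeal σ, f' x = 0 := fun x hx => by
    refine (show fixIdeal σ ≤ RingHom.ker f' from Ideal.span_le.2 ?_) hx
    rintro _ ⟨g, b, rfl⟩
    show f' (σ g b - b) = 0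
    rw [map_sub, hinv, sub_self]
  refine ⟨Ideal.Quotient.liftₐ _ f' hker, Ideal.Quotient.algHom_ext _ ?_⟩
  ext b
  show Ideal.Quotient.mk J (f' b) = f₀ (Ideal.Quotient.mkₐ A (fixIdeal σ) b)
  refine Eq.trans ?_ (AlgHom.congr_fun hf b)
  refine (Ideal.Quotient.eq).2 ?_
  show f' b - f b ∈ J
  rw [hf', ← hsum, add_sub_cancel_left]
  exact hD b

theorem smooth_fix [Algebra.Smooth A B]
    (hσ : ∀ g h, (σ g).comp (σ h) = σ (h * g)) (hN : IsUnit (Nat.card G : A)) :
    Algebra.Smooth A (B ⧸ fixIdeal σ) :=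
  { formallySmooth := formallySmooth_fix σ hσ hN
    finitePresentation := Algebra.FinitePresentation.quotient (fixIdeal_fg σ) }

end Groth.Agent.FixFin
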